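import Mathlib.LinearAlgebra.SymmetricAlgebra.Basic
import Mathlib.RingTheory.FiniteType

/-!
# Generators of symmetric algebras
-/

set_option autoImplicit false

namespace Groth.L16.SymTop

variable {R M : Type*} [CommRing R] [AddCommMonoid M] [Module R M]

/-- A subalgebra of a symmetric algebra containing the degree-one elements is everything. -/
theorem eq_top_of_ι_mem {T : Subalgebra R (SymmetricAlgebra R M)}
    (h : ∀ m, SymmetricAlgebra.ι R M m ∈ T) : T = ⊤ := by
  refine eq_top_iff.2 fun x _ => ?_
  let l : M →ₗ[R] T := LinearMap.codRestrict (Subalgebra.toSubmodule T) (SymmetricAlgebra.ι R M) h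
  have hF : T.val.comp (SymmetricAlgebra.lift l) = AlgHom.id _ _ := SymmetricAlgebra.algHom_ext
    (LinearMap.ext fun m => congrArg Subtype.val (SymmetricAlgebra.lift_ι_apply l m))
  rw [← AlgHom.id_apply (R := R) x, ← hF]
  exact (SymmetricAlgebra.lift l x).2

end Groth.L16.SymTop
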